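import Mathlib

/-!
# Abelian groups on permutation modules over `F₂`: offenders are generated by transpositions

`A` is a finite abelian group acting faithfully on the finite set `Ω`, `V` a vector space over `F₂` with basis
`e p`, `p ∈ Ω`, permuted by `A`. Then `|A| ≤ |V / C_V(A)|` (`card_le`), and in the case of equality all orbits have
length at most 2 and `A` contains the transposition `(x y)` for every orbit `{x, y}` (`exists_swap`).
-/

set_option autoImplicit false
set_option linter.unusedSectionVars false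

namespace Cfsg.Agent.Omega.MutE.Perm

open MulAction Finset

theorem le_two_pow {n : ℕ} (h : 1 ≤ n) : n ≤ 2 ^ (n - 1) := by
  obtain ⟨m, rfl⟩ : ∃ m, n = m + 1 := ⟨n - 1, by omega⟩
  rw [Nat.add_sub_cancel]
  exact Nat.lt_two_pow_self

theorem le_two_of {n : ℕ} (h2 : 2 ^ (n - 1) ≤ n) : n ≤ 2 := by
  by_contra hcon
  push Not at hcon
  obtain ⟨m, rfl⟩ : ∃ m, n = m + 3 := ⟨n - 3, by omega⟩
  have h3 : m + 3 - 1 = m + 2 := by omega
  rw [h3] at h2
  have h4 : m + 1 ≤ 2 ^ m := Nat.lt_two_pow_self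
  have h5 : 2 ^ (m + 2) = 4 * 2 ^ m := by ring
  omega

section perm

variable {A Ω : Type*} [CommGroup A] [Finite A] [Finite Ω] [MulAction A Ω]

/-- the orbits -/
abbrev Orb (A Ω : Type*) [CommGroup A] [MulAction A Ω] := Quotient (orbitRel A Ω)

/-- the length of an orbit -/
noncomputable def len (o : Orb A Ω) : ℕ := (stabilizer A o.out).index

theorem one_le_len (o : Orb A Ω) : 1 ≤ len o := Nat.pos_of_ne_zero Subgroup.index_ne_zero_of_finite

theorem card_eq_sum [Fintype (Orb A Ω)] : Nat.card Ω = ∑ o : Orb A Ω, len o := by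
  rw [Nat.card_congr (selfEquivSigmaOrbitsQuotientStabilizer A Ω), Nat.card_sigma]
  rfl

theorem prod_eq [Fintype (Orb A Ω)] :
    ∏ o : Orb A Ω, 2 ^ (len o - 1) = 2 ^ (Nat.card Ω - Nat.card (Orb A Ω)) := by
  rw [Finset.prod_pow_eq_pow_sum]
  congr 1
  rw [Finset.sum_tsub_distrib _ (fun o _ => one_le_len o), ← card_eq_sum, Finset.sum_const, smul_eq_mul, mul_one,
    Finset.card_univ, Nat.card_eq_fintype_card (α := Orb A Ω)]

theorem smul_eq_iff (b : A) {x y : Ω} (h : x ∈ orbit A y) : b • x = x ↔ b • y = y := by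
  obtain ⟨a, rfl⟩ := h
  change b • a • y = a • y ↔ _
  rw [← mul_smul, mul_comm, mul_smul]
  exact ⟨fun h => (smul_left_cancel _ h), fun h => by rw [h]⟩

theorem out_mem (x : Ω) : x ∈ orbit A (Quotient.mk (orbitRel A Ω) x).out := by
  have h1 : (orbitRel A Ω).r (Quotient.mk (orbitRel A Ω) x).out x := Quotient.mk_out (s := orbitRel A Ω) x
  exact (orbitRel A Ω).symm h1

theorem iInf_eq (hf : ∀ a : A, (∀ x : Ω, a • x = x) → a = 1) : ⨅ o : Orb A Ω, stabilizer A o.out = ⊥ := by
  rw [eq_bot_iff]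
  intro a ha
  rw [Subgroup.mem_iInf] at ha
  exact Subgroup.mem_bot.2 (hf a fun x => (smul_eq_iff a (out_mem x)).2 (ha _))

theorem card_le_prod [Fintype (Orb A Ω)] (hf : ∀ a : A, (∀ x : Ω, a • x = x) → a = 1) :
    Nat.card A ≤ ∏ o : Orb A Ω, len o := by
  have h1 := Subgroup.index_iInf_le fun o : Orb A Ω => stabilizer A o.out
  rw [iInf_eq hf, Subgroup.index_bot] at h1
  exact h1

theorem card_le_pow (hf : ∀ a : A, (∀ x : Ω, a • x = x) → a = 1) :
    Nat.card A ≤ 2 ^ (Nat.card Ω - Nat.card (Orb A Ω)) := by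
  classical
  let _ : Fintype (Orb A Ω) := Fintype.ofFinite _
  rw [← prod_eq]
  exact (card_le_prod hf).trans (Finset.prod_le_prod' fun o _ => le_two_pow (one_le_len o))

/-- the case of equality -/
theorem exists_swap_perm (hf : ∀ a : A, (∀ x : Ω, a • x = x) → a = 1)
    (hle : 2 ^ (Nat.card Ω - Nat.card (Orb A Ω)) ≤ Nat.card A) (a : A) (x : Ω) (hx : a • x ≠ x) :
    ∃ b : A, b • x = a • x ∧ b • a • x = x ∧ ∀ z, z ≠ x → z ≠ a • x → b • z = z := by
  classical
  let _ : Fintype (Orb A Ω) := Fintype.ofFinite _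
  have h1 := card_le_prod (A := A) (Ω := Ω) hf
  have h2 : ∀ o ∈ (Finset.univ : Finset (Orb A Ω)), len o ≤ 2 ^ (len o - 1) := fun o _ =>
    le_two_pow (one_le_len o)
  have h3 : ∏ o : Orb A Ω, len o ≤ ∏ o : Orb A Ω, 2 ^ (len o - 1) := Finset.prod_le_prod' h2
  rw [prod_eq] at h3
  have h4 : Nat.card A = ∏ o : Orb A Ω, len o := le_antisymm h1 (h3.trans hle)
  have h5 : ∀ o : Orb A Ω, len o = 2 ^ (len o - 1) := by
    by_contra hcon
    push Not at hcon
    obtain ⟨o, ho⟩ := hcon
    have h6 : ∏ o : Orb A Ω, len o < ∏ o : Orb A Ω, 2 ^ (len o - 1) :=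
      Finset.prod_lt_prod (fun o _ => one_le_len o) h2 ⟨o, Finset.mem_univ _, lt_of_le_of_ne (h2 o (Finset.mem_univ _)) ho⟩
    rw [prod_eq, ← h4] at h6
    exact absurd hle (not_le_of_gt h6)
  have h6 : ∀ o : Orb A Ω, len o ≤ 2 := fun o => le_two_of (h5 o).symm.le
  -- the natural map
  let f : A → (o : Orb A Ω) → A ⧸ stabilizer A o.out := fun a o => QuotientGroup.mk a
  have hfi : Function.Injective f := by
    intro c d hcd
    have h7 : c⁻¹ * d ∈ ⨅ o : Orb A Ω, stabilizer A o.out := by
      rw [Subgroup.mem_iInf]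
      intro o
      exact QuotientGroup.eq.1 (congrFun hcd o)
    rw [iInf_eq hf, Subgroup.mem_bot] at h7
    exact (inv_mul_eq_one.1 h7)
  have hfs : Function.Surjective f := by
    have h8 : Nat.card ((o : Orb A Ω) → A ⧸ stabilizer A o.out) ≤ Nat.card A := by
      rw [Nat.card_pi, h4]
      exact le_rfl
    exact ((Nat.bijective_iff_injective_and_card f).2 ⟨hfi, le_antisymm (Nat.card_le_card_of_injective f hfi) h8⟩).2
  let o₀ : Orb A Ω := Quotient.mk (orbitRel A Ω) x
  obtain ⟨b, hb⟩ := hfs (fun o => if o = o₀ then QuotientGroup.mk a else QuotientGroup.mk 1)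
  have hb0 : b • o₀.out = a • o₀.out := by
    have h9 := congrFun hb o₀
    simp only [if_true, f] at h9
    have h10 := QuotientGroup.eq.1 h9
    rw [mem_stabilizer_iff, mul_smul, inv_smul_eq_iff] at h10
    exact h10.symm
  have hb1 : ∀ o : Orb A Ω, o ≠ o₀ → b • o.out = o.out := by
    intro o ho
    have h9 := congrFun hb o
    simp only [ho, if_false, f] at h9
    have h10 := QuotientGroup.eq.1 h9
    rw [mul_one] at h10
    rw [mem_stabilizer_iff, inv_smul_eq_iff] at h10
    exact h10.symm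
  have hab : ∀ z ∈ orbit A x, b • z = a • z := by
    intro z hz
    have h11 : (a⁻¹ * b) • o₀.out = o₀.out := by rw [mul_smul, hb0, inv_smul_smul]
    have h12 : (a⁻¹ * b) • z = z := by
      have hz' : z ∈ orbit A o₀.out := by
        have := out_mem (A := A) x
        rw [← orbit_eq_iff] at this
        rw [← this]
        exact hz
      exact (smul_eq_iff _ hz').2 h11
    rw [mul_smul, inv_smul_eq_iff] at h12
    exact h12
  -- the orbit of `x`
  have hcard : (orbit A x).ncard ≤ 2 := by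
    have h13 := h6 o₀
    unfold len at h13
    rw [index_stabilizer] at h13
    have h14 : orbit A o₀.out = orbit A x := (orbit_eq_iff.2 (out_mem x)).symm
    rwa [h14] at h13
  have horb : ∀ z ∈ orbit A x, z = x ∨ z = a • x := by
    intro z hz
    by_contra hcon
    push Not at hcon
    have h15 : ({z, x, a • x} : Set Ω) ⊆ orbit A x := by
      rintro y (rfl | rfl | rfl)
      · exact hz
      · exact mem_orbit_self _
      · exact mem_orbit _ _
    have h16 : ({z, x, a • x} : Set Ω).ncard = 3 :=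
      Set.ncard_eq_three.2 ⟨z, x, a • x, hcon.1, hcon.2, fun h => hx h.symm, rfl⟩
    have h17 := Set.ncard_le_ncard h15 (Set.toFinite _)
    omega
  refine ⟨b, hab x (mem_orbit_self _), ?_, ?_⟩
  · rw [hab _ (mem_orbit _ _)]
    rcases horb (a • a • x) (by rw [← mul_smul]; exact mem_orbit _ _) with h | h
    · exact h
    · exact absurd (smul_left_cancel _ h) hx
  · intro z hz1 hz2
    have hz : z ∉ orbit A x := fun h => by rcases horb z h with h | h; exacts [hz1 h, hz2 h]
    have h18 : (Quotient.mk (orbitRel A Ω) z : Orb A Ω) ≠ o₀ := fun h => hz (Quotient.exact h)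
    exact (smul_eq_iff b (out_mem z)).2 (hb1 _ h18)

end perm

section module

variable {A Ω V : Type*} [CommGroup A] [Finite A] [Finite Ω] [MulAction A Ω] [AddCommGroup V]
  [Module (ZMod 2) V] [DistribMulAction A V]

theorem card_module (e : Module.Basis Ω (ZMod 2) V) : Nat.card V = 2 ^ Nat.card Ω := by
  classical
  let _ : Fintype Ω := Fintype.ofFinite _
  rw [Nat.card_congr e.equivFun.toEquiv, Nat.card_fun, Nat.card_eq_fintype_card (α := ZMod 2), ZMod.card]

theorem coord_smul (e : Module.Basis Ω (ZMod 2) V) (he : ∀ (a : A) (p : Ω), a • e p = e (a • p)) (a : A) (v : V)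
    (p : Ω) : e.repr (a • v) (a • p) = e.repr v p := by
  classical
  let _ : Fintype Ω := Fintype.ofFinite _
  have hz : ∀ (c : ZMod 2) (w : V), a • (c • w) = c • (a • w) := by
    intro c w
    rcases (by revert c; decide : ∀ c : ZMod 2, c = 0 ∨ c = 1) c with rfl | rfl
    · rw [zero_smul, zero_smul, smul_zero]
    · rw [one_smul, one_smul]
  have h1 : a • v = ∑ p, e.repr v p • e (a • p) := by
    conv_lhs => rw [← e.sum_repr v]
    rw [Finset.smul_sum]
    exact Finset.sum_congr rfl fun p _ => by rw [hz, he]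
  have h2 : ∑ p, e.repr v p • e (a • p) = ∑ p, e.repr v (a⁻¹ • p) • e p := by
    refine Fintype.sum_equiv (MulAction.toPerm a) _ _ fun p => ?_
    rw [MulAction.toPerm_apply, inv_smul_smul]
  rw [h1, h2, e.repr_sum_self fun p => e.repr v (a⁻¹ • p)]
  change e.repr v (a⁻¹ • a • p) = _
  rw [inv_smul_smul]

/-- the fixed points of `A` on a permutation module -/
theorem card_fixed_le (e : Module.Basis Ω (ZMod 2) V) (he : ∀ (a : A) (p : Ω), a • e p = e (a • p)) :
    Nat.card {v : V // ∀ a : A, a • v = v} ≤ 2 ^ Nat.card (Orb A Ω) := by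
  classical
  have h1 : Nat.card (Orb A Ω → ZMod 2) = 2 ^ Nat.card (Orb A Ω) := by
    rw [Nat.card_fun, Nat.card_eq_fintype_card (α := ZMod 2), ZMod.card]
  rw [← h1]
  refine Nat.card_le_card_of_injective (fun v o => e.repr v.1 o.out) ?_
  intro v w hvw
  apply Subtype.ext
  apply e.repr.injective
  ext p
  have hc : ∀ v : {v : V // ∀ a : A, a • v = v}, ∀ p : Ω,
      e.repr v.1 p = e.repr v.1 (Quotient.mk (orbitRel A Ω) p).out := by
    intro v p
    obtain ⟨a, ha⟩ := out_mem (A := A) p
    have ha' : a • (Quotient.mk (orbitRel A Ω) p).out = p := ha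
    have h2 := coord_smul e he a v.1 (Quotient.mk (orbitRel A Ω) p).out
    rwa [v.2 a, ha'] at h2
  rw [hc v p, hc w p]
  exact congrFun hvw _

theorem orb_le : Nat.card (Orb A Ω) ≤ Nat.card Ω :=
  Nat.card_le_card_of_surjective (Quotient.mk (orbitRel A Ω)) Quotient.mk_surjective

/-- no over-offenders -/
theorem card_le (e : Module.Basis Ω (ZMod 2) V) (he : ∀ (a : A) (p : Ω), a • e p = e (a • p))
    (hf : ∀ a : A, (∀ v : V, a • v = v) → a = 1) :
    Nat.card A * Nat.card {v : V // ∀ a : A, a • v = v} ≤ Nat.card V := by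
  have hf' : ∀ a : A, (∀ x : Ω, a • x = x) → a = 1 := by
    intro a ha
    refine hf a fun v => ?_
    apply e.repr.injective
    ext p
    have h2 := coord_smul e he a v p
    rwa [ha p] at h2
  calc Nat.card A * Nat.card {v : V // ∀ a : A, a • v = v}
      ≤ 2 ^ (Nat.card Ω - Nat.card (Orb A Ω)) * 2 ^ Nat.card (Orb A Ω) :=
        Nat.mul_le_mul (card_le_pow hf') (card_fixed_le e he)
    _ = Nat.card V := by
        rw [← pow_add, Nat.sub_add_cancel orb_le, card_module e]

/-- offenders contain the transpositions of their orbits -/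
theorem exists_swap (e : Module.Basis Ω (ZMod 2) V) (he : ∀ (a : A) (p : Ω), a • e p = e (a • p))
    (hf : ∀ a : A, (∀ v : V, a • v = v) → a = 1)
    (hoff : Nat.card V ≤ Nat.card A * Nat.card {v : V // ∀ a : A, a • v = v}) (a : A) (x : Ω) (hx : a • x ≠ x) :
    ∃ b : A, b • x = a • x ∧ b • a • x = x ∧ ∀ z, z ≠ x → z ≠ a • x → b • z = z := by
  have hf' : ∀ a : A, (∀ x : Ω, a • x = x) → a = 1 := by
    intro a ha
    refine hf a fun v => ?_
    apply e.repr.injective
    ext p
    have h2 := coord_smul e he a v p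
    rwa [ha p] at h2
  refine exists_swap_perm hf' ?_ a x hx
  have h1 : 2 ^ Nat.card Ω ≤ Nat.card A * 2 ^ Nat.card (Orb A Ω) := by
    rw [← card_module e]
    exact hoff.trans (Nat.mul_le_mul_left _ (card_fixed_le e he))
  have h2 : 2 ^ (Nat.card Ω - Nat.card (Orb A Ω)) * 2 ^ Nat.card (Orb A Ω) ≤
      Nat.card A * 2 ^ Nat.card (Orb A Ω) := by
    rw [← pow_add, Nat.sub_add_cancel orb_le]
    exact h1
  exact Nat.le_of_mul_le_mul_right h2 (Nat.two_pow_pos _)

end module

end Cfsg.Agent.Omega.MutE.Perm
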