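import Mathlib

/-!
# THEOREM E: every mutual pair has a common point (bb OMEGA #10555, helper162)

* `RootAct V A X B q`: the group `A` acts on the elementary abelian group `V` as a product of root
  groups `B i` of order `q` with centres `X i` (the points);
* `match`: `V`, `V'` normalise each other, `RootAct V V' X B q`, `RootAct V' V X' B' q'`: then `q = q'` and the
  families `X`, `X'` of points are the same up to a bijection.
-/

set_option autoImplicit false

namespace Cfsg.Agent.Omega.MutE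

open Subgroup

variable {G : Type*} [Group G]

/-- `A` acts on `V` as a product of root groups `B i` of order `q` with centres `X i`. -/
structure RootAct (V A : Subgroup G) {ι : Type*} (X B : ι → Subgroup G) (q : ℕ) : Prop where
  XV : ∀ i, X i ≤ V
  BA : ∀ i, B i ≤ A
  card : ∀ i, Nat.card (X i) = q
  /-- `[V, B i] ≤ X i` -/
  brk : ∀ i, ∀ a ∈ B i, ∀ v ∈ V, a * v * a⁻¹ * v⁻¹ ∈ X i
  /-- `[V, a] = X i` for `a ∈ B i` which does not centralise `V` -/
  full : ∀ i, ∀ a ∈ B i, (∃ v ∈ V, a * v ≠ v * a) → ∀ x ∈ X i, ∃ v ∈ V, a * v * a⁻¹ * v⁻¹ = x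
  /-- `[v, B i] = X i` for `v ∈ V` not centralised by `B i` -/
  full' : ∀ i, ∀ v ∈ V, (∃ a ∈ B i, a * v ≠ v * a) → ∀ x ∈ X i, ∃ a ∈ B i, a * v * a⁻¹ * v⁻¹ = x
  ne : ∀ i, ∃ a ∈ B i, ∃ v ∈ V, a * v ≠ v * a
  /-- `C_V(A) = C_V(⟨B i⟩)` -/
  gen : ∀ v ∈ V, (∀ i, ∀ a ∈ B i, a * v = v * a) → ∀ a ∈ A, a * v = v * a
  /-- the points are independent -/
  indep : iSupIndep X

namespace RootAct

variable {V A : Subgroup G} {ι : Type*} {X B : ι → Subgroup G} {q : ℕ}

theorem ne_bot (h : RootAct V A X B q) (i : ι) : X i ≠ ⊥ := by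
  intro h0
  obtain ⟨a, ha, v, hv, hav⟩ := h.ne i
  have h1 := h.brk i a ha v hv
  rw [h0, mem_bot] at h1
  exact hav (by rw [mul_inv_eq_one, mul_inv_eq_iff_eq_mul] at h1; exact h1)

theorem X_inj (h : RootAct V A X B q) {i j : ι} (hij : X i = X j) : i = j := by
  by_contra hne
  have h1 : Disjoint (X i) (X j) := h.indep.pairwiseDisjoint hne
  rw [← hij, disjoint_self] at h1
  exact h.ne_bot i h1

end RootAct

section pair

variable {V V' : Subgroup G} {ι ι' : Type*} {X B : ι → Subgroup G} {X' B' : ι' → Subgroup G} {q q' : ℕ}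

theorem exists_le [Finite G] (h : RootAct V V' X B q) (h' : RootAct V' V X' B' q') (i : ι) :
    ∃ j : ι', X' j ≤ X i := by
  obtain ⟨a, ha, v, hv, hav⟩ := h.ne i
  have haV : a ∈ V' := h.BA i ha
  -- `a` is not centralised by some `B' j`
  have h1 : ∃ j, ∃ b ∈ B' j, b * a ≠ a * b := by
    by_contra hcon
    push Not at hcon
    exact hav (h'.gen a haV hcon v hv).symm
  obtain ⟨j, hj⟩ := h1
  refine ⟨j, fun x hx => ?_⟩
  obtain ⟨b, hb, hbx⟩ := h'.full' j a haV hj x hx
  have h2 := h.brk i a ha b (h'.BA j hb)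
  have h3 : x = (a * b * a⁻¹ * b⁻¹)⁻¹ := by rw [← hbx]; group
  rw [h3]
  exact inv_mem h2

theorem q_le [Finite G] (h : RootAct V V' X B q) (h' : RootAct V' V X' B' q') (i : ι) : q' ≤ q := by
  obtain ⟨j, hj⟩ := exists_le h h' i
  rw [← h'.card j, ← h.card i]
  exact Subgroup.card_le_of_le hj

theorem q_eq [Finite G] (h : RootAct V V' X B q) (h' : RootAct V' V X' B' q') (i : ι) : q = q' := by
  obtain ⟨j, -⟩ := exists_le h h' i
  exact le_antisymm (q_le h' h j) (q_le h h' i)

theorem exists_eq [Finite G] (h : RootAct V V' X B q) (h' : RootAct V' V X' B' q') (i : ι) :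
    ∃ j : ι', X i = X' j := by
  obtain ⟨j, hj⟩ := exists_le h h' i
  refine ⟨j, (Subgroup.eq_of_le_of_card_ge hj ?_).symm⟩
  rw [h.card, h'.card, q_eq h h' i]

/-- **THEOREM E**, all points: the points of `V` in `[V, V']` are the points of `V'` in `[V, V']`. -/
theorem exists_equiv [Finite G] (h : RootAct V V' X B q) (h' : RootAct V' V X' B' q') :
    ∃ σ : ι ≃ ι', ∀ i, X i = X' (σ i) := by
  choose f hf using exists_eq h h'
  choose g hg using exists_eq h' h
  exact ⟨⟨f, g, fun i => h.X_inj (by rw [← hg, ← hf]), fun j => h'.X_inj (by rw [← hf, ← hg])⟩, hf⟩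

/-- a mutual pair which does not commute has a point -/
theorem nonempty_of (h : RootAct V V' X B q) (hne : ∃ v ∈ V, ∃ w ∈ V', w * v ≠ v * w) : Nonempty ι := by
  by_contra hcon
  rw [not_nonempty_iff] at hcon
  obtain ⟨v, hv, w, hw, hvw⟩ := hne
  exact hvw (h.gen v hv (fun i => (hcon.false i).elim) w hw)

end pair

end Cfsg.Agent.Omega.MutE
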