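import Cfsg.Agent.Omega.MutE.OfFF
import Cfsg.Agent.Omega.FFMutual

/-!
# THEOREM E for mutual pairs

* `off_both`: without over-offenders both members of a mutual pair are offenders on each other;
* `NPos S P₁ P₂ y`: mutual pair in normal position, `V₁ ≤ S^y`, `V₂^y ≤ S`; `exists_npos`;
* `NPos.nat_nat`, `NPos.sym_sym`, `NPos.nat_sym`: the points of the two members in `[V₁, V₂^y]` are the same,
  `q₁ = q₂`;
* `NatPairs`: two sums of natural modules; the factor `σ i` of `V₂^y` induces on `V₁` exactly the full root group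
  of the factor `i` (`act_of_mem`, `exists_act`, `comm_of_ne`, `comm_of_notMem`, `brk_mem`, `exists_brk`);
* `exists_common`, `exists_common_sym`: for one type `P₁ = P₂` the pair can be chosen as `V`, `V^n` with
  `n ∈ N_G(X)`, `X` a point;
* `mutual_nat`, `mutual_sym`, `mutual_nat_sym`: from a mutual pair to the above.

The hypothesis `C_V(O²(P)) = 1` is built in (`NatK .. ⊥ k`, `SymK .. ⊥ k m`); `P` need not be normal in `N_G(V)`.
-/

set_option autoImplicit false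
set_option linter.unusedSectionVars false

namespace Cfsg.Agent.Omega.MutE

open Subgroup Pointwise Cfsg Cfsg.Agent.ZN Cfsg.Agent.ZN.ChoiceBase Cfsg.Agent.Omega.FFThm
open Cfsg.Agent.MinSimple.VModule (zl_comm zl_sq le_normalizer_zl)
open Cfsg.Agent.Omega.NatPair (ap ap_zero' ap_one')
open Cfsg.Agent.Lib.SL2Mat

universe u

variable {G : Type u} [Group G]

/-! ### Conjugation -/

theorem mem_cj_of {g x : G} {H : Subgroup G} (h : x ∈ H) : g * x * g⁻¹ ∈ cj g H := by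
  rw [mem_cj]
  have : g⁻¹ * (g * x * g⁻¹) * g = x := by group
  rwa [this]

theorem exists_of_mem_cj {g x : G} {H : Subgroup G} (h : x ∈ cj g H) : ∃ y ∈ H, x = g * y * g⁻¹ :=
  ⟨g⁻¹ * x * g, mem_cj.1 h, by group⟩

theorem cj_iSup (g : G) {ι : Sort*} (X : ι → Subgroup G) : cj g (⨆ i, X i) = ⨆ i, cj g (X i) :=
  Subgroup.map_iSup _ _

theorem iSupIndep_cj (g : G) {ι : Type*} {X : ι → Subgroup G} (h : iSupIndep X) :
    iSupIndep fun i => cj g (X i) := by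
  intro i
  have h1 : (⨆ j, ⨆ (_ : j ≠ i), cj g (X j)) = cj g (⨆ j, ⨆ (_ : j ≠ i), X j) := by
    rw [cj_iSup]
    exact iSup_congr fun j => (cj_iSup g _).symm
  rw [h1, disjoint_iff, ← cj_inf, disjoint_iff.1 (h i)]
  exact Subgroup.map_bot _

theorem RootAct.cj {V A : Subgroup G} {ι : Type*} {X B : ι → Subgroup G} {q : ℕ} (h : RootAct V A X B q) (g : G) :
    RootAct (ChoiceBase.cj g V) (ChoiceBase.cj g A) (fun i => ChoiceBase.cj g (X i))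
      (fun i => ChoiceBase.cj g (B i)) q where
  XV i := cj_mono g (h.XV i)
  BA i := cj_mono g (h.BA i)
  card i := by rw [card_cj, h.card]
  brk i a' ha' v' hv' := by
    obtain ⟨a, ha, rfl⟩ := exists_of_mem_cj ha'
    obtain ⟨v, hv, rfl⟩ := exists_of_mem_cj hv'
    have e : g * a * g⁻¹ * (g * v * g⁻¹) * (g * a * g⁻¹)⁻¹ * (g * v * g⁻¹)⁻¹ =
      g * (a * v * a⁻¹ * v⁻¹) * g⁻¹ := by group
    rw [e]
    exact mem_cj_of (h.brk i a ha v hv)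
  full := by
    intro i a' ha' ⟨v', hv', hav⟩ x' hx'
    obtain ⟨a, ha, rfl⟩ := exists_of_mem_cj ha'
    obtain ⟨v, hv, rfl⟩ := exists_of_mem_cj hv'
    obtain ⟨x, hx, rfl⟩ := exists_of_mem_cj hx'
    obtain ⟨w, hw, hwx⟩ := h.full i a ha ⟨v, hv, fun e => hav (by
      have e1 : g * a * g⁻¹ * (g * v * g⁻¹) = g * (a * v) * g⁻¹ := by group
      rw [e1, e]; group)⟩ x hx
    refine ⟨g * w * g⁻¹, mem_cj_of hw, ?_⟩
    rw [← hwx]; group
  full' := by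
    intro i v' hv' ⟨a', ha', hav⟩ x' hx'
    obtain ⟨a, ha, rfl⟩ := exists_of_mem_cj ha'
    obtain ⟨v, hv, rfl⟩ := exists_of_mem_cj hv'
    obtain ⟨x, hx, rfl⟩ := exists_of_mem_cj hx'
    obtain ⟨w, hw, hwx⟩ := h.full' i v hv ⟨a, ha, fun e => hav (by
      have e1 : g * a * g⁻¹ * (g * v * g⁻¹) = g * (a * v) * g⁻¹ := by group
      rw [e1, e]; group)⟩ x hx
    refine ⟨g * w * g⁻¹, mem_cj_of hw, ?_⟩
    rw [← hwx]; group
  ne i := by
    obtain ⟨a, ha, v, hv, hav⟩ := h.ne i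
    refine ⟨g * a * g⁻¹, mem_cj_of ha, g * v * g⁻¹, mem_cj_of hv, fun e => hav ?_⟩
    have e1 : g * (a * v) * g⁻¹ = g * (v * a) * g⁻¹ := by
      calc g * (a * v) * g⁻¹ = g * a * g⁻¹ * (g * v * g⁻¹) := by group
        _ = g * v * g⁻¹ * (g * a * g⁻¹) := e
        _ = _ := by group
    exact mul_left_cancel (mul_right_cancel e1)
  gen := by
    intro v' hv' hc a' ha'
    obtain ⟨a, ha, rfl⟩ := exists_of_mem_cj ha'
    obtain ⟨v, hv, rfl⟩ := exists_of_mem_cj hv'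
    have h1 := h.gen v hv (fun i b hb => by
      have e := hc i (g * b * g⁻¹) (mem_cj_of hb)
      have e1 : g * (b * v) * g⁻¹ = g * (v * b) * g⁻¹ := by
        calc g * (b * v) * g⁻¹ = g * b * g⁻¹ * (g * v * g⁻¹) := by group
          _ = g * v * g⁻¹ * (g * b * g⁻¹) := e
          _ = _ := by group
      exact mul_left_cancel (mul_right_cancel e1)) a ha
    calc g * a * g⁻¹ * (g * v * g⁻¹) = g * (a * v) * g⁻¹ := by group
      _ = g * (v * a) * g⁻¹ := by rw [h1]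
      _ = _ := by group
  indep := iSupIndep_cj g h.indep

/-! ### Offenders -/

variable [Finite G]

/-- Without over-offenders both members of a mutual pair are offenders on each other. -/
theorem off_both (hc : IsCharacteristicTwoType G) (S : Sylow 2 G) {P₁ P₂ : Subgroup G} {x : G}
    (h : Mutual (S : Subgroup G) P₁ P₂ x) (n1 : NoOver (zl (S : Subgroup G) P₁) P₁)
    (n2 : NoOver (zl (S : Subgroup G) P₂) P₂) :
    Off (zl (S : Subgroup G) P₁) (cj x (zl (S : Subgroup G) P₂)) ∧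
      Off (cj x (zl (S : Subgroup G) P₂)) (zl (S : Subgroup G) P₁) := by
  have e1 := elem_zl hc S h.star₁.isLoc
  have e2 := elem_zl hc S h.star₂.isLoc
  have key : ∀ {Q₁ Q₂ : Subgroup G} {y : G}, Mutual (S : Subgroup G) Q₁ Q₂ y →
      NoOver (zl (S : Subgroup G) Q₁) Q₁ → IsElementaryAbelian 2 (zl (S : Subgroup G) Q₁) →
      IsElementaryAbelian 2 (zl (S : Subgroup G) Q₂) →
      Off (cj y (zl (S : Subgroup G) Q₂)) (zl (S : Subgroup G) Q₁) := by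
    intro Q₁ Q₂ y hm hn hq1 hq2
    refine ⟨hq1, fun h2 => Mutual.not_le hm (le_centralizer_iff.mp h2), ?_⟩
    exact le_of_noOver S hm.star₁.le (le_normalizer_zl _ _) hn (isElementaryAbelian_cj y hq2) hm.le₂
  refine ⟨?_, key h n1 e1 e2⟩
  have h1 := off_cj (key h.symm n2 e2 e1) x
  rwa [cj_cj_inv] at h1

/-! ### Normal position -/

/-- A mutual pair in normal position: `V₁ ≤ S^y`, `V₂^y ≤ S`. -/
structure NPos (S P₁ P₂ : Subgroup G) (y : G) : Prop extends Mutual S P₁ P₂ y where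
  le₁' : zl S P₁ ≤ cj y S
  le₂' : cj y (zl S P₂) ≤ S

theorem NPos.symm {S P₁ P₂ : Subgroup G} {y : G} (h : NPos S P₁ P₂ y) : NPos S P₂ P₁ y⁻¹ where
  toMutual := h.toMutual.symm
  le₁' := by
    rw [← cj_le_iff]
    exact h.le₂'
  le₂' := by
    rw [cj_le_iff, inv_inv]
    exact h.le₁'

/-- Every mutual pair can be moved into normal position. -/
theorem exists_npos (hc : IsCharacteristicTwoType G) (S : Sylow 2 G) {P₁ P₂ : Subgroup G} {x : G}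
    (h : Mutual (S : Subgroup G) P₁ P₂ x) :
    ∃ m ∈ normalizer (zl (S : Subgroup G) P₁ : Set G), ∃ m' ∈ normalizer (zl (S : Subgroup G) P₂ : Set G),
      NPos (S : Subgroup G) P₁ P₂ (m * x * m'⁻¹) := by
  have e1 := elem_zl hc S h.star₁.isLoc
  have e2 := elem_zl hc S h.star₂.isLoc
  obtain ⟨m, hm, h1⟩ := exists_conj_le S (h.star₁.le.trans (le_normalizer_zl _ _))
    (isPGroup_of_elem (isElementaryAbelian_cj x e2)) h.le₂
  obtain ⟨m', hm', h2⟩ := exists_conj_le S (h.star₂.le.trans (le_normalizer_zl _ _))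
    (isPGroup_of_elem (isElementaryAbelian_cj x⁻¹ e1)) h.symm.le₂
  have hV1 : cj m (zl (S : Subgroup G) P₁) = zl (S : Subgroup G) P₁ := cj_eq_of_mem_normalizer hm
  have hV2 : cj m'⁻¹ (zl (S : Subgroup G) P₂) = zl (S : Subgroup G) P₂ :=
    cj_eq_of_mem_normalizer (inv_mem hm')
  have e3 : cj (m * x * m'⁻¹) (zl (S : Subgroup G) P₂) = cj m (cj x (zl (S : Subgroup G) P₂)) := by
    rw [← cj_cj, hV2, cj_cj]
  refine ⟨m, hm, m', hm', ⟨h.star₁, h.star₂, ?_, ?_, ?_⟩, ?_, ?_⟩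
  · rw [conj_smul_eq_cj, e3, ← cj_normalizer, ← hV1]
    exact cj_mono m h.le₁
  · rw [conj_smul_eq_cj, e3, ← hV1, ← cj_normalizer]
    exact cj_mono m h.le₂
  · rw [conj_smul_eq_cj, e3]
    intro h0
    apply h.ne
    have h3 : cj m ⁅zl (S : Subgroup G) P₁, cj x (zl (S : Subgroup G) P₂)⁆ = ⊥ := by
      have h5 : cj m ⁅zl (S : Subgroup G) P₁, cj x (zl (S : Subgroup G) P₂)⁆ =
          ⁅cj m (zl (S : Subgroup G) P₁), cj m (cj x (zl (S : Subgroup G) P₂))⁆ := Subgroup.map_commutator _ _ _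
      rw [h5, hV1, h0]
    exact (Subgroup.map_eq_bot_iff_of_injective _ (MulAut.conj m).injective).1 h3
  · have h4 : cj (m * x * m'⁻¹)⁻¹ (zl (S : Subgroup G) P₁) ≤ S := by
      have e4 : (m * x * m'⁻¹)⁻¹ = m' * x⁻¹ * m⁻¹ := by group
      have hV1' : cj m⁻¹ (zl (S : Subgroup G) P₁) = zl (S : Subgroup G) P₁ :=
        cj_eq_of_mem_normalizer (inv_mem hm)
      rw [e4, ← cj_cj, hV1', ← cj_cj]
      exact h2
    rwa [cj_le_iff, inv_inv] at h4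
  · rw [e3]
    exact h1

/-! ### The points of a mutual pair -/

section points

variable {S P₁ P₂ : Subgroup G} {y : G}

theorem NPos.exists_ne (h : NPos S P₁ P₂ y) : ∃ v ∈ zl S P₁, ∃ w ∈ cj y (zl S P₂), w * v ≠ v * w := by
  by_contra hcon
  push Not at hcon
  apply Mutual.not_le h.toMutual
  intro w hw
  rw [mem_centralizer_iff]
  exact fun v hv => (hcon v hv w hw).symm

/-- **THEOREM E**: the points of the two members of a mutual pair. -/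
theorem NPos.points (h : NPos S P₁ P₂ y) {ι ι' : Type*} {X B : ι → Subgroup G} {X' B' : ι' → Subgroup G}
    {q q' : ℕ} (h1 : RootAct (zl S P₁) (cj y (zl S P₂)) X B q)
    (h2 : RootAct (zl S P₂) (cj y⁻¹ (zl S P₁)) X' B' q') :
    q = q' ∧ Nonempty ι ∧ ∃ σ : ι ≃ ι', ∀ i, X i = cj y (X' (σ i)) := by
  have h3 := h2.cj y
  rw [cj_cj_inv] at h3
  have h4 : Nonempty ι := nonempty_of h1 h.exists_ne
  exact ⟨q_eq h1 h3 h4.some, h4, exists_equiv h1 h3⟩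

end points

/-! ### Two sums of natural modules -/

/-- `A` acts on `V` as the full product of the root groups in `I`. -/
def FullOn {F : Type} [Field F] {T H V D : Subgroup G} {k : ℕ} (N : NatK F T H V D k) (A : Subgroup G)
    (I : Set (Fin k)) : Prop :=
  (∀ a ∈ A, ∃ b : Fin k → F, (∀ i, i ∉ I → b i = 0) ∧ ActsSL N.e V D a fun i => up (b i)) ∧
    ∀ b : Fin k → F, (∀ i, i ∉ I → b i = 0) → ∃ a ∈ A, ActsSL N.e V D a fun i => up (b i)

section nat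

variable {F : Type} [Field F] {T H V A : Subgroup G} {k : ℕ}

omit [Finite G] in
theorem e_brk (N : NatK F T H V ⊥ k) {a v : G} (ha : a ∈ normalizer (V : Set G)) (hv : v ∈ V) {b : Fin k → F}
    (hab : ActsSL N.e V ⊥ a fun i => up (b i)) (j : Fin k) :
    N.e (a * v * a⁻¹ * v⁻¹) j = ![b j * N.e v j 1, 0] := by
  rw [N.mul _ ((mem_normalizer_iff.1 ha v).1 hv) _ (inv_mem hv), N.e_inv hv, Pi.add_apply, hab.1 v hv j, Pi.neg_apply]
  funext l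
  fin_cases l
  · simp [ap]
  · simp [ap]

omit [Finite G] in
theorem eq_one_of (N : NatK F T H V ⊥ k) {v : G} (hv : v ∈ V) (h : ∀ j, N.e v j = 0) : v = 1 :=
  N.e_inj hv V.one_mem (by rw [N.e_one]; funext j; exact h j)

omit [Finite G] in
theorem fac_le (N : NatK F T H V ⊥ k) (i : Fin k) : N.fac i ≤ V := fun _ h => h.1

omit [Finite G] in
/-- `SL₂`-elements which act in the same way on `V` -/
theorem b_unique (N : NatK F T H V ⊥ k) {b b' : Fin k → F}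
    (hb : ∀ v ∈ V, ∀ j, b j * N.e v j 1 = b' j * N.e v j 1) : b = b' := by
  funext j
  obtain ⟨v, hv, hve⟩ := N.surj fun _ => ![0, 1]
  have h1 := hb v hv j
  rw [hve] at h1
  simpa using h1

end nat

section natnat

variable {S P₁ P₂ : Subgroup G} {y : G} {F₁ F₂ : Type} [Field F₁] [Field F₂] {k₁ k₂ : ℕ}

/-- The configuration of two sums of natural modules. -/
structure NatPairs (S P₁ P₂ : Subgroup G) (y : G) (N₁ : NatK F₁ S P₁ (zl S P₁) ⊥ k₁)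
    (N₂ : NatK F₂ S P₂ (zl S P₂) ⊥ k₂) (I₁ : Set (Fin k₁)) (I₂ : Set (Fin k₂)) (σ : I₁ ≃ I₂) : Prop
    extends NPos S P₁ P₂ y where
  card_eq : Nat.card F₁ = Nat.card F₂
  nonempty : I₁.Nonempty
  full₁ : FullOn N₁ (cj y (zl S P₂)) I₁
  full₂ : FullOn N₂ (cj y⁻¹ (zl S P₁)) I₂
  pt_eq : ∀ i : I₁, N₁.pt i = cj y (N₂.pt (σ i))

theorem NPos.nat_nat (h : NPos S P₁ P₂ y) (ho : Off (zl S P₁) (cj y (zl S P₂)))
    (ho' : Off (cj y (zl S P₂)) (zl S P₁)) (N₁ : NatK F₁ S P₁ (zl S P₁) ⊥ k₁)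
    (N₂ : NatK F₂ S P₂ (zl S P₂) ⊥ k₂) :
    ∃ (I₁ : Set (Fin k₁)) (I₂ : Set (Fin k₂)) (σ : I₁ ≃ I₂), NatPairs S P₁ P₂ y N₁ N₂ I₁ I₂ σ := by
  obtain ⟨I₁, B₁, f1, f2, -, h1⟩ := N₁.rootAct (h.star₁.le.trans (le_normalizer_zl _ _)) h.le₂' ho
  have ho2 := off_cj ho' y⁻¹
  rw [cj_inv_cj] at ho2
  obtain ⟨I₂, B₂, g1, g2, -, h2⟩ := N₂.rootAct (h.star₂.le.trans (le_normalizer_zl _ _)) h.symm.le₂' ho2
  obtain ⟨hq, hne, σ, hσ⟩ := h.points h1 h2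
  exact ⟨I₁, I₂, σ, h, hq, ⟨hne.some.1, hne.some.2⟩, ⟨f1, f2⟩, ⟨g1, g2⟩, hσ⟩

namespace NatPairs

variable {N₁ : NatK F₁ S P₁ (zl S P₁) ⊥ k₁} {N₂ : NatK F₂ S P₂ (zl S P₂) ⊥ k₂} {I₁ : Set (Fin k₁)}
  {I₂ : Set (Fin k₂)} {σ : I₁ ≃ I₂}

theorem symm (h : NatPairs S P₁ P₂ y N₁ N₂ I₁ I₂ σ) : NatPairs S P₂ P₁ y⁻¹ N₂ N₁ I₂ I₁ σ.symm where
  toNPos := h.toNPos.symm
  card_eq := h.card_eq.symm
  nonempty := by
    obtain ⟨i, hi⟩ := h.nonempty
    exact ⟨σ ⟨i, hi⟩, (σ ⟨i, hi⟩).2⟩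
  full₁ := h.full₂
  full₂ := by rw [inv_inv]; exact h.full₁
  pt_eq j := by
    rw [h.pt_eq, Equiv.apply_symm_apply, cj_inv_cj]

theorem norm₁ (h : NatPairs S P₁ P₂ y N₁ N₂ I₁ I₂ σ) {a : G} (ha : a ∈ cj y (zl S P₂)) :
    a ∈ normalizer (zl S P₁ : Set G) := h.le₂ ha

/-- the factors outside `I₂` centralise `V₁` -/
theorem comm_of_notMem (h : NatPairs S P₁ P₂ y N₁ N₂ I₁ I₂ σ) {j : Fin k₂} (hj : j ∉ I₂) {a v : G}
    (ha : a ∈ cj y (N₂.fac j)) (hv : v ∈ zl S P₁) : a * v = v * a := by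
  obtain ⟨w, hw, rfl⟩ := exists_of_mem_cj ha
  obtain ⟨b, hb, hact⟩ := h.full₂.1 (y⁻¹ * v * y⁻¹⁻¹) (mem_cj_of hv)
  have hn : y⁻¹ * v * y⁻¹⁻¹ ∈ normalizer (zl S P₂ : Set G) := h.symm.norm₁ (mem_cj_of hv)
  have h1 : y⁻¹ * v * y⁻¹⁻¹ * w * (y⁻¹ * v * y⁻¹⁻¹)⁻¹ * w⁻¹ = 1 := by
    refine eq_one_of N₂ (mul_mem ((mem_normalizer_iff.1 hn w).1 hw.1) (inv_mem hw.1)) fun l => ?_
    rw [e_brk N₂ hn hw.1 hact l]
    by_cases hl : l = j
    · rw [hl, hb j hj, zero_mul]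
      funext i; fin_cases i <;> rfl
    · rw [hw.2 l hl]
      simp only [Pi.zero_apply, mul_zero]
      funext i; fin_cases i <;> rfl
  rw [comm_iff] at h1
  calc y * w * y⁻¹ * v = y * (w * (y⁻¹ * v * y⁻¹⁻¹)) * y⁻¹ := by group
    _ = y * (y⁻¹ * v * y⁻¹⁻¹ * w) * y⁻¹ := by rw [h1]
    _ = _ := by group

/-- `[V₁, V₂ⱼ^y] ≤ X_i`, `j = σ i` -/
theorem brk_mem (h : NatPairs S P₁ P₂ y N₁ N₂ I₁ I₂ σ) (i : I₁) {a v : G}
    (ha : a ∈ cj y (N₂.fac (σ i))) (hv : v ∈ zl S P₁) : a * v * a⁻¹ * v⁻¹ ∈ N₁.pt i := by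
  obtain ⟨w, hw, rfl⟩ := exists_of_mem_cj ha
  obtain ⟨b, hb, hact⟩ := h.full₂.1 (y⁻¹ * v * y⁻¹⁻¹) (mem_cj_of hv)
  have hn : y⁻¹ * v * y⁻¹⁻¹ ∈ normalizer (zl S P₂ : Set G) := h.symm.norm₁ (mem_cj_of hv)
  have h1 : y⁻¹ * v * y⁻¹⁻¹ * w * (y⁻¹ * v * y⁻¹⁻¹)⁻¹ * w⁻¹ ∈ N₂.pt (σ i) := by
    refine ⟨mul_mem ((mem_normalizer_iff.1 hn w).1 hw.1) (inv_mem hw.1), fun l hl => ?_, ?_⟩
    · rw [e_brk N₂ hn hw.1 hact l, hw.2 l hl]
      simp only [Pi.zero_apply, mul_zero]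
      funext i; fin_cases i <;> rfl
    · rw [e_brk N₂ hn hw.1 hact _]
      rfl
  rw [h.pt_eq i]
  have h2 := mem_cj_of (g := y) h1
  have h3 : y * w * y⁻¹ * v * (y * w * y⁻¹)⁻¹ * v⁻¹ =
      (y * (y⁻¹ * v * y⁻¹⁻¹ * w * (y⁻¹ * v * y⁻¹⁻¹)⁻¹ * w⁻¹) * y⁻¹)⁻¹ := by group
  rw [h3]
  exact inv_mem h2

/-- the factor `σ i` of `V₂^y` acts on `V₁` in the factor `i` -/
theorem act_of_mem (h : NatPairs S P₁ P₂ y N₁ N₂ I₁ I₂ σ) (i : I₁) {a : G}
    (ha : a ∈ cj y (N₂.fac (σ i))) :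
    ∃ b : F₁, ActsSL N₁.e (zl S P₁) ⊥ a fun l => up ((Pi.single (i : Fin k₁) b : Fin k₁ → F₁) l) := by
  have haV : a ∈ cj y (zl S P₂) := cj_mono y (fac_le N₂ _) ha
  obtain ⟨b, hb, hact⟩ := h.full₁.1 a haV
  refine ⟨b i, ?_⟩
  have h1 : b = Pi.single (i : Fin k₁) (b i) := by
    refine b_unique N₁ fun v hv l => ?_
    by_cases hl : l = i
    · subst hl; rw [Pi.single_eq_same]
    · rw [Pi.single_eq_of_ne hl, zero_mul]
      have h2 := (h.brk_mem i ha hv).2.1 l hl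
      rw [e_brk N₁ (h.norm₁ haV) hv hact l] at h2
      exact congrFun h2 0
  rw [← h1]
  exact hact

/-- `[V₁ₗ, V₂ⱼ^y] = 1` if `j = σ i`, `l ≠ i` -/
theorem comm_of_ne (h : NatPairs S P₁ P₂ y N₁ N₂ I₁ I₂ σ) (i : I₁) {l : Fin k₁} (hl : l ≠ i) {a v : G}
    (ha : a ∈ cj y (N₂.fac (σ i))) (hv : v ∈ N₁.fac l) : a * v = v * a := by
  have haV : a ∈ cj y (zl S P₂) := cj_mono y (fac_le N₂ _) ha
  obtain ⟨b, hact⟩ := h.act_of_mem i ha
  rw [← comm_iff]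
  refine eq_one_of N₁ (mul_mem ((mem_normalizer_iff.1 (h.norm₁ haV) v).1 hv.1) (inv_mem hv.1)) fun j => ?_
  rw [e_brk N₁ (h.norm₁ haV) hv.1 hact j]
  by_cases hj : j = l
  · rw [hj, Pi.single_eq_of_ne hl, zero_mul]
    funext i; fin_cases i <;> rfl
  · rw [hv.2 j hj]
    simp only [Pi.zero_apply, mul_zero]
    funext i; fin_cases i <;> rfl

/-- the full root group in the factor `i` is induced by the factor `σ i` of `V₂^y` -/
theorem exists_act (h : NatPairs S P₁ P₂ y N₁ N₂ I₁ I₂ σ) (i : I₁) (b : F₁) :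
    ∃ a ∈ cj y (N₂.fac (σ i)),
      ActsSL N₁.e (zl S P₁) ⊥ a fun l => up ((Pi.single (i : Fin k₁) b : Fin k₁ → F₁) l) := by
  classical
  obtain ⟨a, ha, hact⟩ := h.full₁.2 (Pi.single (i : Fin k₁) b) (fun l hl => by
    have hli : l ≠ (i : Fin k₁) := fun e => hl (by rw [e]; exact i.2)
    simp [hli])
  obtain ⟨w, hw, rfl⟩ := exists_of_mem_cj ha
  -- the component of `w` in the factor `σ i`
  obtain ⟨w₀, hw₀, hwe⟩ := N₂.surj (Pi.single ((σ i : I₂) : Fin k₂) (N₂.e w (σ i)))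
  have hw₀f : w₀ ∈ N₂.fac (σ i) := ⟨hw₀, fun l hl => by rw [hwe, Pi.single_eq_of_ne hl]⟩
  -- `w₀⁻¹ w` centralises `V₁`
  have hcen : ∀ v ∈ zl S P₁, y * (w₀⁻¹ * w) * y⁻¹ * v = v * (y * (w₀⁻¹ * w) * y⁻¹) := by
    intro v hv
    have hu : w₀⁻¹ * w ∈ zl S P₂ := mul_mem (inv_mem hw₀) hw
    obtain ⟨c, hc, hactc⟩ := h.full₂.1 (y⁻¹ * v * y⁻¹⁻¹) (mem_cj_of hv)
    have hn : y⁻¹ * v * y⁻¹⁻¹ ∈ normalizer (zl S P₂ : Set G) := h.symm.norm₁ (mem_cj_of hv)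
    have h1 : y⁻¹ * v * y⁻¹⁻¹ * (w₀⁻¹ * w) * (y⁻¹ * v * y⁻¹⁻¹)⁻¹ * (w₀⁻¹ * w)⁻¹ = 1 := by
      refine eq_one_of N₂ (mul_mem ((mem_normalizer_iff.1 hn _).1 hu) (inv_mem hu)) fun l => ?_
      rw [e_brk N₂ hn hu hactc l, N₂.mul _ (inv_mem hw₀) _ hw, N₂.e_inv hw₀, hwe]
      by_cases hl : l = (σ i : I₂)
      · subst hl
        simp only [Pi.add_apply, Pi.neg_apply, Pi.single_eq_same, neg_add_cancel, mul_zero]
        funext i; fin_cases i <;> rfl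
      · -- `[v, w] ∈ X_{σ i}`
        have h2 : y * w * y⁻¹ * v * (y * w * y⁻¹)⁻¹ * v⁻¹ ∈ N₁.pt i := by
          refine ⟨mul_mem ((mem_normalizer_iff.1 (h.norm₁ (mem_cj_of hw)) v).1 hv) (inv_mem hv), fun j hj => ?_, ?_⟩
          · rw [e_brk N₁ (h.norm₁ (mem_cj_of hw)) hv hact j, Pi.single_eq_of_ne hj, zero_mul]
            funext i; fin_cases i <;> rfl
          · rw [e_brk N₁ (h.norm₁ (mem_cj_of hw)) hv hact _]
            rfl
        rw [h.pt_eq i, mem_cj] at h2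
        have h3 : y⁻¹ * (y * w * y⁻¹ * v * (y * w * y⁻¹)⁻¹ * v⁻¹) * y =
            (y⁻¹ * v * y⁻¹⁻¹ * w * (y⁻¹ * v * y⁻¹⁻¹)⁻¹ * w⁻¹)⁻¹ := by group
        rw [h3, inv_mem_iff] at h2
        have h4 := h2.2.1 l hl
        rw [e_brk N₂ hn hw hactc l] at h4
        have h5 := congrFun h4 0
        simp only [Pi.add_apply, Pi.neg_apply, Pi.single_eq_of_ne hl, Pi.zero_apply, neg_zero, zero_add]
        have h6 : c l * N₂.e w l 1 = 0 := h5
        rw [h6]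
        funext i; fin_cases i <;> rfl
    rw [comm_iff] at h1
    calc y * (w₀⁻¹ * w) * y⁻¹ * v = y * (w₀⁻¹ * w * (y⁻¹ * v * y⁻¹⁻¹)) * y⁻¹ := by group
      _ = y * (y⁻¹ * v * y⁻¹⁻¹ * (w₀⁻¹ * w)) * y⁻¹ := by rw [h1]
      _ = _ := by group
  refine ⟨y * w₀ * y⁻¹, mem_cj_of hw₀f, fun v hv j => ?_, fun d hd => ?_⟩
  · have h7 := hact.1 v hv j
    have h8 : y * w * y⁻¹ * v * (y * w * y⁻¹)⁻¹ = y * w₀ * y⁻¹ * v * (y * w₀ * y⁻¹)⁻¹ := by
      have h9 : y * w * y⁻¹ = y * w₀ * y⁻¹ * (y * (w₀⁻¹ * w) * y⁻¹) := by group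
      rw [h9]
      calc y * w₀ * y⁻¹ * (y * (w₀⁻¹ * w) * y⁻¹) * v * (y * w₀ * y⁻¹ * (y * (w₀⁻¹ * w) * y⁻¹))⁻¹
          = y * w₀ * y⁻¹ * ((y * (w₀⁻¹ * w) * y⁻¹) * v) * (y * (w₀⁻¹ * w) * y⁻¹)⁻¹ * (y * w₀ * y⁻¹)⁻¹ := by group
        _ = y * w₀ * y⁻¹ * (v * (y * (w₀⁻¹ * w) * y⁻¹)) * (y * (w₀⁻¹ * w) * y⁻¹)⁻¹ * (y * w₀ * y⁻¹)⁻¹ := by
            rw [hcen v hv]
        _ = _ := by group
    rw [h8] at h7
    exact h7
  · rw [mem_bot] at hd
    rw [hd, mul_one, one_mul]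

/-- every element of the point `X_i` is a commutator of the factors `i`, `σ i` -/
theorem exists_brk (h : NatPairs S P₁ P₂ y N₁ N₂ I₁ I₂ σ) (i : I₁) {x : G} (hx : x ∈ N₁.pt i) :
    ∃ v ∈ N₁.fac i, ∃ a ∈ cj y (N₂.fac (σ i)), a * v * a⁻¹ * v⁻¹ = x := by
  classical
  obtain ⟨a, ha, hact⟩ := h.exists_act i (N₁.e x i 0)
  obtain ⟨v, hv, hve⟩ := N₁.surj (Pi.single (i : Fin k₁) ![0, 1])
  have haV : a ∈ cj y (zl S P₂) := cj_mono y (fac_le N₂ _) ha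
  refine ⟨v, ⟨hv, fun j hj => by rw [hve, Pi.single_eq_of_ne hj]⟩, a, ha, ?_⟩
  refine N₁.e_inj (mul_mem ((mem_normalizer_iff.1 (h.norm₁ haV) v).1 hv) (inv_mem hv)) hx.1 ?_
  funext j
  rw [e_brk N₁ (h.norm₁ haV) hv hact j, hve]
  by_cases hj : j = i
  · subst hj
    rw [Pi.single_eq_same, Pi.single_eq_same]
    funext l
    fin_cases l
    · simp
    · exact hx.2.2.symm
  · rw [Pi.single_eq_of_ne hj, hx.2.1 j hj, zero_mul]
    funext l; fin_cases l <;> rfl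

end NatPairs

end natnat

/-! ### One type -/

section one

variable {F : Type} [Field F] {T H V : Subgroup G} {k : ℕ}

omit [Finite G] in
/-- `T` permutes the factors `fac i` and the points `pt i` transitively -/
theorem exists_cj_pt (N : NatK F T H V ⊥ k) (hTH : T ≤ H) (hTV : T ≤ normalizer (V : Set G)) (i j : Fin k) :
    ∃ t ∈ T, cj t (N.pt i) = N.pt j ∧ cj t (N.fac i) = N.fac j := by
  classical
  obtain ⟨t, ht, h1⟩ := N.trans i j
  obtain ⟨τ, hτ⟩ := N.perm t (hTH ht)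
  obtain ⟨ρ, hρ⟩ := N.line t ht
  have hV : ∀ v ∈ V, t * v * t⁻¹ ∈ V := fun v hv => (mem_normalizer_iff.1 (hTV ht) v).1 hv
  have hV' : ∀ v ∈ V, ∃ w ∈ V, t * w * t⁻¹ = v := fun v hv =>
    ⟨t⁻¹ * v * t, by
      have := (mem_normalizer_iff.1 (inv_mem (hTV ht)) v).1 hv
      rwa [inv_inv] at this, by group⟩
  -- `τ i = j`
  have hτi : τ i = j := by
    by_contra hne
    obtain ⟨v, hv, hve⟩ := N.surj (Pi.single j ![0, 1])
    obtain ⟨w, hw, rfl⟩ := hV' v hv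
    have h2 := (hτ w hw i).1 (by rw [hve, Pi.single_eq_of_ne hne])
    have h3 := (h1 w hw).2 h2
    rw [hve, Pi.single_eq_same] at h3
    have := congrFun h3 1
    simp at this
  -- `ρ i = j`
  have hρi : ρ i = j := by
    by_contra hne
    -- choose a vector with `e (ρ i) = 0`, and `e j = (0,1)`, on the other side `e i` is ..
    obtain ⟨v, hv, hve⟩ := N.surj (Pi.single (ρ i) ![0, 1])
    obtain ⟨w, hw, rfl⟩ := hV' v hv
    have h2 : N.e w i = 0 := by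
      rw [← h1 w hw, hve, Pi.single_eq_of_ne (Ne.symm hne)]
    have h3 := (hρ w hw i).2 (by rw [h2]; rfl)
    rw [hve, Pi.single_eq_same] at h3
    simp at h3
  have hfac : ∀ x, x ∈ cj t (N.fac i) ↔ x ∈ N.fac j := by
    intro x
    rw [mem_cj]
    have e1 : t * (t⁻¹ * x * t) * t⁻¹ = x := by group
    constructor
    · rintro ⟨hx, h2⟩
      have hxV : x ∈ V := by rw [← e1]; exact hV _ hx
      refine ⟨hxV, fun l hl => ?_⟩
      have h4 := (hτ _ hx (τ.symm l)).2 (h2 _ (fun e => hl (by rw [← e, Equiv.apply_symm_apply] at hτi; exact hτi)))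
      rwa [e1, Equiv.apply_symm_apply] at h4
    · rintro ⟨hx, h2⟩
      have hxV : t⁻¹ * x * t ∈ V := by
        have := (mem_normalizer_iff.1 (inv_mem (hTV ht)) x).1 hx
        rwa [inv_inv] at this
      refine ⟨hxV, fun l hl => ?_⟩
      rw [← hτ _ hxV l, e1]
      exact h2 _ (fun e => hl (τ.injective (by rw [e, hτi])))
  refine ⟨t, ht, ?_, SetLike.ext hfac⟩
  ext x
  have e1 : t * (t⁻¹ * x * t) * t⁻¹ = x := by group
  constructor
  · intro hx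
    have h5 := (hfac x).1 (cj_mono t (N.pt_le_fac i) hx)
    rw [mem_cj] at hx
    refine ⟨h5.1, h5.2, ?_⟩
    have h4 := (hρ _ hx.1 i).2 hx.2.2
    rwa [e1, hρi] at h4
  · intro hx
    have h5 := (hfac x).2 (N.pt_le_fac j hx)
    rw [mem_cj] at h5 ⊢
    refine ⟨h5.1, h5.2, ?_⟩
    rw [← hρ _ h5.1 i, e1, hρi]
    exact hx.2.2

variable {S P : Subgroup G} {y : G}

/-- **THEOREM E, one type, natural factors**: `V^y = V^n` with `n ∈ N_G(X)`, `X` a point of `V`. -/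
theorem exists_common {N : NatK F S P (zl S P) ⊥ k} {I₁ I₂ : Set (Fin k)} {σ : I₁ ≃ I₂}
    (h : NatPairs S P P y N N I₁ I₂ σ) (i : I₁) :
    ∃ n ∈ normalizer (N.pt i : Set G), NPos S P P n ∧ cj n (zl S P) = cj y (zl S P) ∧
      cj n (N.fac i) = cj y (N.fac (σ i)) := by
  obtain ⟨t, ht, h1, h2⟩ := exists_cj_pt N h.star₁.le (h.star₁.le.trans (le_normalizer_zl _ _)) i (σ i)
  have htV : cj t (zl S P) = zl S P :=
    cj_eq_of_mem_normalizer ((h.star₁.le.trans (le_normalizer_zl _ _)) ht)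
  have htS : cj t S = S := cj_eq_of_mem_normalizer (le_normalizer ht)
  have e1 : cj (y * t) (zl S P) = cj y (zl S P) := by rw [← cj_cj, htV]
  refine ⟨y * t, ?_, ⟨⟨h.star₁, h.star₂, ?_, ?_, ?_⟩, ?_, ?_⟩, e1, ?_⟩
  · rw [mem_normalizer_iff_cj, ← cj_cj, h1, ← h.pt_eq]
  · rw [conj_smul_eq_cj, e1]
    exact h.le₁
  · rw [conj_smul_eq_cj, e1]
    exact h.le₂
  · rw [conj_smul_eq_cj, e1]
    exact h.ne
  · rw [← cj_cj, htS]
    exact h.le₁'
  · rw [e1]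
    exact h.le₂'
  · rw [← cj_cj, h2]

end one

/-! ### Even-subset modules -/

section sym

variable {S P₁ P₂ : Subgroup G} {y : G} {k₁ k₂ m₁ m₂ : ℕ}

/-- the pairs `p = (i, x, y)` such that `A` contains the transposition `(x y)` of the summand `i` -/
def swaps {T H V : Subgroup G} {k m : ℕ} (N : SymK T H V ⊥ k m) (A : Subgroup G) :
    Set (Fin k × Fin (2 ^ m + 1) × Fin (2 ^ m + 1)) :=
  {p | p.2.1 < p.2.2 ∧ ∃ b ∈ A, ActsSym N.e V b 1 (Function.update 1 p.1 (Equiv.swap p.2.1 p.2.2))}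

/-- **THEOREM E, two sums of even-subset modules**: the transposition centres are the same. -/
theorem NPos.sym_sym (h : NPos S P₁ P₂ y) (ho : Off (zl S P₁) (cj y (zl S P₂)))
    (ho' : Off (cj y (zl S P₂)) (zl S P₁)) (hm₁ : 1 ≤ m₁) (hm₂ : 1 ≤ m₂) (N₁ : SymK S P₁ (zl S P₁) ⊥ k₁ m₁)
    (N₂ : SymK S P₂ (zl S P₂) ⊥ k₂ m₂) :
    (swaps N₁ (cj y (zl S P₂))).Nonempty ∧
      ∃ σ : swaps N₁ (cj y (zl S P₂)) ≃ swaps N₂ (cj y⁻¹ (zl S P₁)),
        ∀ p : swaps N₁ (cj y (zl S P₂)), N₁.pt p = cj y (N₂.pt (σ p)) := by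
  obtain ⟨I₁, B₁, f1, -, h1⟩ := N₁.rootAct hm₁ (h.star₁.le.trans (le_normalizer_zl _ _)) h.le₂' ho
  have ho2 := off_cj ho' y⁻¹
  rw [cj_inv_cj] at ho2
  obtain ⟨I₂, B₂, g1, -, h2⟩ := N₂.rootAct hm₂ (h.star₂.le.trans (le_normalizer_zl _ _)) h.symm.le₂' ho2
  obtain ⟨-, hne, σ, hσ⟩ := h.points h1 h2
  obtain rfl : I₁ = swaps N₁ (cj y (zl S P₂)) := Set.ext f1
  obtain rfl : I₂ = swaps N₂ (cj y⁻¹ (zl S P₁)) := Set.ext g1
  exact ⟨⟨hne.some.1, hne.some.2⟩, σ, hσ⟩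

/-- **THEOREM E, natural modules against even-subset modules**: `|F| = 2`, and the points are the
transposition centres. -/
theorem NPos.nat_sym {F : Type} [Field F] (h : NPos S P₁ P₂ y) (ho : Off (zl S P₁) (cj y (zl S P₂)))
    (ho' : Off (cj y (zl S P₂)) (zl S P₁)) (hm₂ : 1 ≤ m₂) (N₁ : NatK F S P₁ (zl S P₁) ⊥ k₁)
    (N₂ : SymK S P₂ (zl S P₂) ⊥ k₂ m₂) :
    Nat.card F = 2 ∧ ∃ I₁ : Set (Fin k₁), I₁.Nonempty ∧ FullOn N₁ (cj y (zl S P₂)) I₁ ∧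
      ∃ σ : I₁ ≃ swaps N₂ (cj y⁻¹ (zl S P₁)), ∀ i : I₁, N₁.pt i = cj y (N₂.pt (σ i)) := by
  obtain ⟨I₁, B₁, f1, f2, -, h1⟩ := N₁.rootAct (h.star₁.le.trans (le_normalizer_zl _ _)) h.le₂' ho
  have ho2 := off_cj ho' y⁻¹
  rw [cj_inv_cj] at ho2
  obtain ⟨I₂, B₂, g1, -, h2⟩ := N₂.rootAct hm₂ (h.star₂.le.trans (le_normalizer_zl _ _)) h.symm.le₂' ho2
  obtain ⟨hq, hne, σ, hσ⟩ := h.points h1 h2
  obtain rfl : I₂ = swaps N₂ (cj y⁻¹ (zl S P₁)) := Set.ext g1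
  exact ⟨hq, I₁, ⟨hne.some.1, hne.some.2⟩, ⟨f1, f2⟩, σ, hσ⟩

omit [Finite G] in
theorem exists_perm_two {n : ℕ} {a b c d : Fin n} (hab : a ≠ b) (hcd : c ≠ d) :
    ∃ π : Equiv.Perm (Fin n), π a = c ∧ π b = d := by
  refine ⟨Equiv.swap (Equiv.swap a c b) d * Equiv.swap a c, ?_, ?_⟩
  · rw [Equiv.Perm.mul_apply, Equiv.swap_apply_left, Equiv.swap_apply_of_ne_of_ne _ hcd]
    intro h
    have h1 : Equiv.swap a c b = Equiv.swap a c a := by rw [← h, Equiv.swap_apply_left]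
    exact hab ((Equiv.swap a c).injective h1).symm
  · rw [Equiv.Perm.mul_apply, Equiv.swap_apply_left]

omit [Finite G] in
/-- `H` is transitive on the points -/
theorem exists_cj_pt_sym {T H V : Subgroup G} {k m : ℕ} (N : SymK T H V ⊥ k m) (hTH : T ≤ H)
    (hHV : H ≤ normalizer (V : Set G)) {p q : Fin k × Fin (2 ^ m + 1) × Fin (2 ^ m + 1)} (hp : p.2.1 ≠ p.2.2)
    (hq : q.2.1 ≠ q.2.2) : ∃ g ∈ H, cj g (N.pt p) = N.pt q := by
  obtain ⟨t, ht, σ, τ, hact, hσ⟩ := N.trans p.1 q.1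
  obtain ⟨π, hπ1, hπ2⟩ := exists_perm_two (a := τ p.1 p.2.1) (b := τ p.1 p.2.2) (c := q.2.1) (d := q.2.2)
    (fun e => hp ((τ p.1).injective e)) hq
  obtain ⟨g, hg, hgact, -⟩ := N.lift fun _ => π
  have hgt : g * t ∈ H := mul_mem hg (hTH ht)
  have hn : ∀ {h : G}, h ∈ H → ∀ v ∈ V, h * v * h⁻¹ ∈ V := fun hh v hv => (mem_normalizer_iff.1 (hHV hh) v).1 hv
  have key : ∀ v ∈ V, ∀ i x, N.e (g * t * v * (g * t)⁻¹) (σ i) (π (τ i x)) = N.e v i x := by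
    intro v hv i x
    have e1 : g * t * v * (g * t)⁻¹ = g * (t * v * t⁻¹) * g⁻¹ := by group
    rw [e1, ← hact v hv i x]
    exact hgact _ (hn (hTH ht) v hv) (σ i) (τ i x)
  -- the centre of `p` goes to the centre of `q`
  have hcv : ∀ v ∈ V, (N.e v = cvec p ↔ N.e (g * t * v * (g * t)⁻¹) = cvec q) := by
    have h1 : ∀ i x, (cvec q : Fin k → Fin (2 ^ m + 1) → ZMod 2) (σ i) (π (τ i x)) = cvec p i x := by
      intro i x
      unfold cvec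
      by_cases hi : i = p.1
      · subst hi
        simp only [hσ, true_and]
        have e1 : (π (τ p.1 x) = q.2.1) ↔ x = p.2.1 := by
          rw [← hπ1]
          exact ⟨fun h => (τ p.1).injective (π.injective h), fun h => by rw [h]⟩
        have e2 : (π (τ p.1 x) = q.2.2) ↔ x = p.2.2 := by
          rw [← hπ2]
          exact ⟨fun h => (τ p.1).injective (π.injective h), fun h => by rw [h]⟩
        simp only [e1, e2]
      · have h2 : σ i ≠ q.1 := fun h => hi (σ.injective (by rw [h, hσ]))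
        simp [hi, h2]
    intro v hv
    constructor
    · intro h
      funext j z
      obtain ⟨i, rfl⟩ := σ.surjective j
      obtain ⟨x', rfl⟩ := π.surjective z
      obtain ⟨x, rfl⟩ := (τ i).surjective x'
      rw [key v hv, h, h1]
    · intro h
      funext i x
      rw [← key v hv i x, h, h1]
  refine ⟨g * t, hgt, ?_⟩
  ext x
  rw [mem_cj, N.mem_pt, N.mem_pt]
  have e1 : g * t * ((g * t)⁻¹ * x * (g * t)) * (g * t)⁻¹ = x := by group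
  have hV : ((g * t)⁻¹ * x * (g * t)) ∈ V ↔ x ∈ V := by
    constructor
    · intro h
      rw [← e1]
      exact hn hgt _ h
    · intro h
      have := hn (inv_mem hgt) x h
      rwa [inv_inv] at this
  have h1 : (g * t)⁻¹ * x * (g * t) = 1 ↔ x = 1 := by
    constructor
    · intro h
      rw [← e1, h]; group
    · rintro rfl
      group
  constructor
  · rintro ⟨hx, h2⟩
    refine ⟨hV.1 hx, ?_⟩
    rcases h2 with h2 | h2
    · exact Or.inl (h1.1 h2)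
    · right
      have := (hcv _ hx).1 h2
      rwa [e1] at this
  · rintro ⟨hx, h2⟩
    refine ⟨hV.2 hx, ?_⟩
    rcases h2 with h2 | h2
    · exact Or.inl (h1.2 h2)
    · right
      rw [hcv _ (hV.2 hx), e1]
      exact h2

/-- **THEOREM E, one type, even-subset modules**: `V^y = V^n` with `n ∈ N_G(X) = C_G(z)`, `X = ⟨z⟩` the centre
of a transposition induced by `V^y`. -/
theorem exists_common_sym {P : Subgroup G} {k m : ℕ} (h : NPos S P P y) (N : SymK S P (zl S P) ⊥ k m)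
    {σ : swaps N (cj y (zl S P)) ≃ swaps N (cj y⁻¹ (zl S P))}
    (hσ : ∀ p : swaps N (cj y (zl S P)), N.pt p = cj y (N.pt (σ p))) (p : swaps N (cj y (zl S P))) :
    ∃ n ∈ normalizer (N.pt p : Set G), Mutual S P P n ∧ cj n (zl S P) = cj y (zl S P) := by
  obtain ⟨g, hg, h1⟩ := exists_cj_pt_sym N h.star₁.le (le_normalizer_zl S P) p.2.1.ne (σ p).2.1.ne
  have hgV : cj g (zl S P) = zl S P := cj_eq_of_mem_normalizer (le_normalizer_zl S P hg)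
  have e1 : cj (y * g) (zl S P) = cj y (zl S P) := by rw [← cj_cj, hgV]
  refine ⟨y * g, ?_, ⟨h.star₁, h.star₂, ?_, ?_, ?_⟩, e1⟩
  · rw [mem_normalizer_iff_cj, ← cj_cj, h1, ← hσ]
  · rw [conj_smul_eq_cj, e1]
    exact h.le₁
  · rw [conj_smul_eq_cj, e1]
    exact h.le₂
  · rw [conj_smul_eq_cj, e1]
    exact h.ne

end sym

/-! ### From mutual pairs -/

section fromMutual

variable (hc : IsCharacteristicTwoType G) (S : Sylow 2 G) {P₁ P₂ : Subgroup G} {x : G}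

include hc in
theorem mutual_npos (h : Mutual (S : Subgroup G) P₁ P₂ x) (n1 : NoOver (zl (S : Subgroup G) P₁) P₁)
    (n2 : NoOver (zl (S : Subgroup G) P₂) P₂) :
    ∃ m ∈ normalizer (zl (S : Subgroup G) P₁ : Set G), ∃ m' ∈ normalizer (zl (S : Subgroup G) P₂ : Set G),
      NPos (S : Subgroup G) P₁ P₂ (m * x * m'⁻¹) ∧
        Off (zl (S : Subgroup G) P₁) (cj (m * x * m'⁻¹) (zl (S : Subgroup G) P₂)) ∧
        Off (cj (m * x * m'⁻¹) (zl (S : Subgroup G) P₂)) (zl (S : Subgroup G) P₁) := by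
  obtain ⟨m, hm, m', hm', hp⟩ := exists_npos hc S h
  exact ⟨m, hm, m', hm', hp, off_both hc S hp.toMutual n1 n2⟩

include hc in
/-- Two sums of natural modules. -/
theorem mutual_nat {F₁ F₂ : Type} [Field F₁] [Field F₂] {k₁ k₂ : ℕ} (h : Mutual (S : Subgroup G) P₁ P₂ x)
    (n1 : NoOver (zl (S : Subgroup G) P₁) P₁) (n2 : NoOver (zl (S : Subgroup G) P₂) P₂)
    (N₁ : NatK F₁ (S : Subgroup G) P₁ (zl (S : Subgroup G) P₁) ⊥ k₁)
    (N₂ : NatK F₂ (S : Subgroup G) P₂ (zl (S : Subgroup G) P₂) ⊥ k₂) :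
    ∃ m ∈ normalizer (zl (S : Subgroup G) P₁ : Set G), ∃ m' ∈ normalizer (zl (S : Subgroup G) P₂ : Set G),
      ∃ (I₁ : Set (Fin k₁)) (I₂ : Set (Fin k₂)) (σ : I₁ ≃ I₂),
        NatPairs (S : Subgroup G) P₁ P₂ (m * x * m'⁻¹) N₁ N₂ I₁ I₂ σ := by
  obtain ⟨m, hm, m', hm', hp, o1, o2⟩ := mutual_npos hc S h n1 n2
  exact ⟨m, hm, m', hm', hp.nat_nat o1 o2 N₁ N₂⟩

include hc in
/-- Two sums of even-subset modules. -/
theorem mutual_sym {k₁ k₂ m₁ m₂ : ℕ} (h : Mutual (S : Subgroup G) P₁ P₂ x)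
    (n1 : NoOver (zl (S : Subgroup G) P₁) P₁) (n2 : NoOver (zl (S : Subgroup G) P₂) P₂)
    (hm₁ : 1 ≤ m₁) (hm₂ : 1 ≤ m₂)
    (N₁ : SymK (S : Subgroup G) P₁ (zl (S : Subgroup G) P₁) ⊥ k₁ m₁)
    (N₂ : SymK (S : Subgroup G) P₂ (zl (S : Subgroup G) P₂) ⊥ k₂ m₂) :
    ∃ m ∈ normalizer (zl (S : Subgroup G) P₁ : Set G), ∃ m' ∈ normalizer (zl (S : Subgroup G) P₂ : Set G),
      ∃ y, y = m * x * m'⁻¹ ∧ NPos (S : Subgroup G) P₁ P₂ y ∧
        (swaps N₁ (cj y (zl (S : Subgroup G) P₂))).Nonempty ∧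
        ∃ σ : swaps N₁ (cj y (zl (S : Subgroup G) P₂)) ≃ swaps N₂ (cj y⁻¹ (zl (S : Subgroup G) P₁)),
          ∀ p : swaps N₁ (cj y (zl (S : Subgroup G) P₂)), N₁.pt p = cj y (N₂.pt (σ p)) := by
  obtain ⟨m, hm, m', hm', hp, o1, o2⟩ := mutual_npos hc S h n1 n2
  exact ⟨m, hm, m', hm', _, rfl, hp, hp.sym_sym o1 o2 hm₁ hm₂ N₁ N₂⟩

include hc in
/-- A sum of natural modules against a sum of even-subset modules: `|F| = 2`. -/
theorem mutual_nat_sym {F : Type} [Field F] {k₁ k₂ m₂ : ℕ} (h : Mutual (S : Subgroup G) P₁ P₂ x)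
    (n1 : NoOver (zl (S : Subgroup G) P₁) P₁) (n2 : NoOver (zl (S : Subgroup G) P₂) P₂) (hm₂ : 1 ≤ m₂)
    (N₁ : NatK F (S : Subgroup G) P₁ (zl (S : Subgroup G) P₁) ⊥ k₁)
    (N₂ : SymK (S : Subgroup G) P₂ (zl (S : Subgroup G) P₂) ⊥ k₂ m₂) :
    Nat.card F = 2 ∧ ∃ m ∈ normalizer (zl (S : Subgroup G) P₁ : Set G),
      ∃ m' ∈ normalizer (zl (S : Subgroup G) P₂ : Set G),
      ∃ y, y = m * x * m'⁻¹ ∧ NPos (S : Subgroup G) P₁ P₂ y ∧
        ∃ I₁ : Set (Fin k₁), I₁.Nonempty ∧ FullOn N₁ (cj y (zl (S : Subgroup G) P₂)) I₁ ∧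
          ∃ σ : I₁ ≃ swaps N₂ (cj y⁻¹ (zl (S : Subgroup G) P₁)), ∀ i : I₁, N₁.pt i = cj y (N₂.pt (σ i)) := by
  obtain ⟨m, hm, m', hm', hp, o1, o2⟩ := mutual_npos hc S h n1 n2
  obtain ⟨hq, h1⟩ := hp.nat_sym o1 o2 hm₂ N₁ N₂
  exact ⟨hq, m, hm, m', hm', _, rfl, hp, h1⟩

end fromMutual

end Cfsg.Agent.Omega.MutE
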